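import Groth.Agent.S7179
import Groth.Agent.Lib.AlgSpace.Points
import Groth.Agent.Lib.AlgSpace.Diag
import Groth.Prelude.Def_AlgSpSub
import Mathlib.AlgebraicGeometry.Morphisms.FlatMono

/-!
# Reducedness of local rings along etale charts
-/

set_option autoImplicit false

universe u

open CategoryTheory CategoryTheory.Limits AlgebraicGeometry
open AlgSp Groth.Agent.Lib.AlgSpace

namespace Groth.Agent.Lib.AlgSpRed.Stalk

theorem flat_fromSpecStalk (X : Scheme.{u}) (x : X) : Flat (X.fromSpecStalk x) := by
  obtain ⟨U, hU, hxU, -⟩ := exists_isAffineOpen_mem_and_subset (X := X) (x := x) (U := ⊤) trivial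
  rw [← hU.fromSpecStalk_eq_fromSpecStalk hxU, IsAffineOpen.fromSpecStalk]
  haveI : Flat (Spec.map (X.presheaf.germ U x hxU)) := by
    rw [Flat.SpecMap_iff]
    letI : Algebra Γ(X, U) (X.presheaf.stalk x) := (X.presheaf.germ U x hxU).hom.toAlgebra
    haveI := hU.isLocalization_stalk ⟨x, hxU⟩
    exact RingHom.flat_algebraMap_iff.mpr
      (IsLocalization.flat (X.presheaf.stalk x) (hU.primeIdealOf ⟨x, hxU⟩).asIdeal.primeCompl)
  infer_instance

/-- Reducedness of a local ring descends along flat morphisms. -/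
theorem reduced_of_flat {X Y : Scheme.{u}} (f : X ⟶ Y) [Flat f] (x : X)
    [_root_.IsReduced (X.presheaf.stalk x)] : _root_.IsReduced (Y.presheaf.stalk (f x)) := by
  have h0 := Flat.stalkMap f x
  algebraize [(f.stalkMap x).hom]
  have : Module.FaithfullyFlat (Y.presheaf.stalk (f x)) (X.presheaf.stalk x) :=
    @Module.FaithfullyFlat.of_flat_of_isLocalHom _ _ _ _ _ _ _ h0 (f.toLRSHom.prop x)
  exact isReduced_of_injective (f.stalkMap x).hom ‹RingHom.FaithfullyFlat _›.injective

/-- Reducedness of a local ring ascends along etale morphisms. -/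
theorem reduced_of_etale {X Y : Scheme.{u}} (f : X ⟶ Y) [Etale f] (x : X)
    [_root_.IsReduced (Y.presheaf.stalk (f x))] : _root_.IsReduced (X.presheaf.stalk x) := by
  have := flat_fromSpecStalk Y (f x)
  have : IsReduced (pullback f (Y.fromSpecStalk (f x))) :=
    S7179.result (pullback.snd f (Y.fromSpecStalk (f x)))
  obtain ⟨z, hz, -⟩ := Scheme.Pullback.exists_preimage_pullback (f := f)
    (g := Y.fromSpecStalk (f x)) x (IsLocalRing.closedPoint _) Scheme.fromSpecStalk_closedPoint.symm
  have h := reduced_of_flat (pullback.fst f (Y.fromSpecStalk (f x))) z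
  rw [hz] at h
  exact h

variable {S : Scheme.{u}} {F : Sp S}

/-- Reducedness of the local ring at a point does not depend on the chart. -/
theorem isReduced_stalk_of_hasAt (hF : Representable (Limits.diag F)) {U : Over S}
    {a : (yon S).obj U ⟶ F} (ha : RepWith @Etale a) (u : ↥U.left)
    (h : HasAt (fun U u => _root_.IsReduced ↥(U.presheaf.stalk u)) F (Points.ofPt a u)) :
    _root_.IsReduced ↥(U.left.presheaf.stalk u) := by
  obtain ⟨V, b, v, hb, e, hv⟩ := h
  obtain ⟨R, p, q, sq⟩ := exists_isPullback_yon hF a b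
  have : Etale p.left := repWith_property hb sq.flip
  have : Etale q.left := repWith_property ha sq
  obtain ⟨r, rfl, rfl⟩ := (ofPt_eq_ofPt_iff_of_isPullback sq u v).1 e.symm
  have : _root_.IsReduced ↥(R.left.presheaf.stalk r) := @reduced_of_etale _ _ q.left _ r hv
  exact reduced_of_flat p.left r

theorem hasAt_of_isReduced {U : Over S} {a : (yon S).obj U ⟶ F} (ha : RepWith @Etale a)
    [IsReduced U.left] (u : ↥U.left) :
    HasAt (fun U u => _root_.IsReduced ↥(U.presheaf.stalk u)) F (Points.ofPt a u) :=
  ⟨U, a, u, ha, rfl, inferInstance⟩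

theorem hasAt_of_isReducedSp (h : IsReducedSp F) (x : Points F) :
    HasAt (fun U u => _root_.IsReduced ↥(U.presheaf.stalk u)) F x := by
  obtain ⟨U, a, ha, has, hU⟩ := h
  obtain ⟨u, rfl⟩ := surjective_ofPt has x
  exact hasAt_of_isReduced ha u

theorem isReduced_of_forall_hasAt (hF : Representable (Limits.diag F)) {U : Over S}
    {a : (yon S).obj U ⟶ F} (ha : RepWith @Etale a)
    (h : ∀ x, HasAt (fun U u => _root_.IsReduced ↥(U.presheaf.stalk u)) F x) : IsReduced U.left :=
  have : ∀ u : ↥U.left, _root_.IsReduced ↥(U.left.presheaf.stalk u) :=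
    fun u => isReduced_stalk_of_hasAt hF ha u (h _)
  isReduced_of_isReduced_stalk U.left

/-- Every chart of a reduced algebraic space is reduced. -/
theorem isReduced_chart (hF : Representable (Limits.diag F)) (h : IsReducedSp F) {U : Over S}
    {a : (yon S).obj U ⟶ F} (ha : RepWith @Etale a) : IsReduced U.left :=
  isReduced_of_forall_hasAt hF ha (hasAt_of_isReducedSp h)

end Groth.Agent.Lib.AlgSpRed.Stalk
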